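import Cfsg.Prelude.Def_SolvableStructure
import Cfsg.Prelude.Def_Transfer
import Cfsg.Agent.Lib.Solvable.Basic
import Cfsg.Agent.S0046
import Cfsg.Agent.Lib.Solvable.Core
import Mathlib.GroupTheory.SpecificGroups.Cyclic

/-!
Structure of minimal non-nilpotent and minimal non-abelian groups.
-/

set_option autoImplicit false

open Subgroup
open scoped Pointwise commutatorElement

namespace CfsgLib.MinNonNilp

variable {G : Type*} [Group G] [Finite G]

theorem sylow_eq_of_normal {r : ℕ} [Fact r.Prime] (R R' : Sylow r G) (h : (R : Subgroup G).Normal) :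
    R = R' := by
  obtain ⟨g, hg⟩ := MulAction.exists_smul_eq G R R'
  rw [← hg, Sylow.smul_eq_of_normal (h := h)]

/-- Inside a nilpotent subgroup, subgroups of coprime prime power order commute. -/
theorem commute_of_le_nilpotent {K A B : Subgroup G} (hK : Group.IsNilpotent K) {p q : ℕ}
    [hp : Fact p.Prime] [hq : Fact q.Prime] (hpq : p ≠ q) (hA : IsPGroup p A) (hB : IsPGroup q B)
    (hAK : A ≤ K) (hBK : B ≤ K) : A ≤ centralizer (B : Set G) := by
  obtain ⟨P, hP⟩ := (hA.comap_of_injective K.subtype K.subtype_injective).exists_le_sylow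
  obtain ⟨Q, hQ⟩ := (hB.comap_of_injective K.subtype K.subtype_injective).exists_le_sylow
  have hdis : Disjoint (P : Subgroup K) (Q : Subgroup K) :=
    IsPGroup.disjoint_of_ne _ _ hpq _ _ P.2 Q.2
  intro a ha
  rw [mem_centralizer_iff]
  intro b hb
  exact congrArg Subtype.val (commute_of_normal_of_disjoint (P : Subgroup K) (Q : Subgroup K)
    inferInstance inferInstance hdis ⟨a, hAK ha⟩ ⟨b, hBK hb⟩
    (hP (mem_subgroupOf.mpr ha)) (hQ (mem_subgroupOf.mpr hb))).eq.symm

/-- A subgroup containing a Sylow subgroup for every prime is the whole group. -/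
theorem eq_top_of_forall_sylow {X : Subgroup G}
    (h : ∀ r : ℕ, ∀ [Fact r.Prime], r ∣ Nat.card G → ∃ R : Sylow r G, (R : Subgroup G) ≤ X) :
    X = ⊤ := by
  refine eq_top_of_card_eq _ (Nat.dvd_antisymm (card_subgroup_dvd_card X) ?_)
  rw [← Nat.factorization_prime_le_iff_dvd Nat.card_pos.ne' Nat.card_pos.ne']
  intro r hr
  have := Fact.mk hr
  by_cases hd : r ∣ Nat.card G
  · obtain ⟨R, hR⟩ := h r hd
    rw [← hr.pow_dvd_iff_le_factorization Nat.card_pos.ne', ← R.card_eq_multiplicity]
    exact card_dvd_of_le hR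
  · rw [Nat.factorization_eq_zero_of_not_dvd hd]
    exact Nat.zero_le _

/-- Schmidt's structure theorem. -/
theorem structure_theorem (hG : Cfsg.IsMinimalNonNilpotent G) :
    ∃ p q : ℕ, p.Prime ∧ q.Prime ∧ p ≠ q ∧ ∃ (P : Sylow p G) (Q : Sylow q G),
      IsCyclic P ∧ (Q : Subgroup G).Normal ∧ (P : Subgroup G) ⊔ Q = ⊤ := by
  have : Group.IsSolvable G := Cfsg.Agent.S0046.result fun M hM => hG.2 M hM.1
  have : Nontrivial G := by
    by_contra h
    rw [not_nontrivial_iff_subsingleton] at h
    exact hG.1 inferInstance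
  obtain ⟨M, hMn, -, hMi⟩ := CfsgLib.Solvable.exists_normal_prime_index (G := G)
  set p := M.index with hpdef
  have := Fact.mk hMi
  have hMtop : M ≠ ⊤ := fun h => Nat.not_prime_one (by rw [hpdef, h, index_top] at hMi; exact hMi)
  have hMnil := hG.2 M hMtop
  -- Sylow subgroups for primes other than `p` are normal
  have hnorm : ∀ (r : ℕ) [Fact r.Prime], r ≠ p → ∀ R : Sylow r G, (R : Subgroup G).Normal := by
    intro r _ hrp R
    have hRM : (R : Subgroup G) ≤ M := by
      rw [← relIndex_eq_one]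
      obtain ⟨k, hk⟩ := IsPGroup.iff_card.mp R.2
      exact Nat.eq_one_of_dvd_coprimes
        (Nat.Coprime.pow_left k ((Nat.coprime_primes Fact.out hMi).mpr hrp))
        (hk ▸ index_dvd_card _) (relIndex_dvd_index_of_normal M R)
    have := (R.subtype hRM).characteristic_of_normal inferInstance
    have h2 : (((R.subtype hRM : Sylow r M) : Subgroup M).map M.subtype).Normal := inferInstance
    rwa [Sylow.coe_subtype, map_subgroupOf_eq_of_le hRM] at h2
  have P : Sylow p G := default
  have hPn : normalizer ((P : Subgroup G) : Set G) ≠ ⊤ := by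
    intro h
    refine hG.1 ?_
    have q := (Group.isNilpotent_of_finite_tfae (G := G)).out 0 3
    rw [q]
    intro r hr R
    by_cases hrp : r = p
    · subst hrp
      rw [← sylow_eq_of_normal P R (normalizer_eq_top_iff.mp h)]
      exact normalizer_eq_top_iff.mp h
    · exact hnorm r hrp R
  obtain ⟨q, hq, hqp, Q, hPQ⟩ : ∃ q : ℕ, ∃ _ : Fact q.Prime, q ≠ p ∧
      ∃ Q : Sylow q G, (P : Subgroup G) ⊔ Q = ⊤ := by
    by_contra hall
    push Not at hall
    refine hPn (eq_top_of_forall_sylow fun r hr _ => ?_)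
    by_cases hrp : r = p
    · subst hrp
      exact ⟨P, le_normalizer⟩
    · exact ⟨default, (commute_of_le_nilpotent (hG.2 _ (hall r hr hrp default)) hrp
        (default : Sylow r G).2 P.2 le_sup_right le_sup_left).trans (centralizer_le_normalizer _)⟩
  have hQn := hnorm q hqp Q
  obtain ⟨x, hxP, hx⟩ : ∃ x ∈ (P : Subgroup G), zpowers x ⊔ (Q : Subgroup G) = ⊤ := by
    by_contra hall
    push Not at hall
    have hc : ∀ x ∈ (P : Subgroup G), x ∈ centralizer ((Q : Subgroup G) : Set G) := fun x hx =>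
      commute_of_le_nilpotent (hG.2 _ (hall x hx)) hqp.symm
        (P.2.to_le (zpowers_le.mpr hx)) Q.2 le_sup_left le_sup_right (mem_zpowers x)
    refine hPn (top_le_iff.mp ?_)
    rw [← hPQ]
    exact sup_le le_normalizer ((le_centralizer_iff.mp hc).trans (centralizer_le_normalizer _))
  have hdis : ∀ X : Subgroup G, IsPGroup p X → Disjoint (Q : Subgroup G) X := fun X hX =>
    IsPGroup.disjoint_of_ne _ _ hqp _ _ Q.2 hX
  have hzx : IsPGroup p (zpowers x) := P.2.to_le (zpowers_le.mpr hxP)
  have h1 := CfsgLib.Solvable.card_sup_of_disjoint (N := (Q : Subgroup G))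
    ((normalizer_eq_top (Q : Subgroup G)).ge.trans' le_top) (hdis _ hzx)
  have h2 := CfsgLib.Solvable.card_sup_of_disjoint (N := (Q : Subgroup G))
    ((normalizer_eq_top (Q : Subgroup G)).ge.trans' le_top) (hdis _ P.2)
  rw [sup_comm, hx] at h1
  rw [sup_comm, hPQ, h1] at h2
  have hPx : zpowers x = (P : Subgroup G) := eq_of_le_of_card_ge (zpowers_le.mpr hxP)
    (Nat.eq_of_mul_eq_mul_left Nat.card_pos h2).ge
  refine ⟨p, q, hMi, hq.out, hqp.symm, P, Q, ?_, hQn, hPQ⟩
  show IsCyclic (P : Subgroup G)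
  rw [← hPx]
  infer_instance

/-- Minimal non-abelian groups. -/
theorem minimal_non_abelian (hna : ¬ IsMulCommutative G)
    (h : ∀ H : Subgroup G, H ≠ ⊤ → IsMulCommutative H) :
    (∃ p : ℕ, p.Prime ∧ IsPGroup p G) ∨ ∃ p q : ℕ, p.Prime ∧ q.Prime ∧ p ≠ q ∧
      ∃ (P : Sylow p G) (Q : Sylow q G), IsCyclic P ∧ (Q : Subgroup G).Normal ∧
        Cfsg.IsElementaryAbelian q (Q : Subgroup G) ∧ (P : Subgroup G) ⊔ Q = ⊤ := by
  have hcomm : ∀ H : Subgroup G, H ≠ ⊤ → ∀ a ∈ H, ∀ b ∈ H, a * b = b * a := fun H hH a ha b hb =>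
    congrArg Subtype.val ((h H hH).is_comm.comm ⟨a, ha⟩ ⟨b, hb⟩)
  by_cases hnil : Group.IsNilpotent G
  · left
    by_contra hp
    push Not at hp
    refine hna ⟨⟨fun a b => ?_⟩⟩
    have hc : center G = ⊤ := eq_top_of_forall_sylow fun r hr hrd => by
      refine ⟨default, fun x hx => ?_⟩
      have hR : ((default : Sylow r G) : Subgroup G) ≠ ⊤ := fun e =>
        hp r hr.out ((e ▸ (default : Sylow r G).2 : IsPGroup r (⊤ : Subgroup G)).of_equiv
          Subgroup.topEquiv)
      rw [mem_center_iff]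
      intro g
      have : centralizer {x} = ⊤ := eq_top_of_forall_sylow fun s hs _ => by
        refine ⟨default, fun y hy => ?_⟩
        rw [mem_centralizer_singleton_iff]
        by_cases hsr : s = r
        · subst hsr
          exact hcomm _ hR y hy x hx
        · exact (mem_centralizer_iff.mp (commute_of_le_nilpotent (K := ⊤)
            (Group.isNilpotent_top.mpr hnil) hsr (default : Sylow s G).2 (default : Sylow r G).2
            le_top le_top hy) x hx).symm
      exact mem_centralizer_singleton_iff.mp (this ▸ mem_top g)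
    exact mem_center_iff.mp (hc ▸ mem_top b) a
  · right
    have hmin : Cfsg.IsMinimalNonNilpotent G := by
      refine ⟨hnil, fun H hH => ?_⟩
      exact CfsgLib.Solvable.isNilpotent_of_comm fun a b => (h H hH).is_comm.comm a b
    obtain ⟨p, q, hp, hq, hpq, P, Q, hPc, hQn, hPQ⟩ := structure_theorem hmin
    have := Fact.mk hp
    have := Fact.mk hq
    have hQt : (Q : Subgroup G) ≠ ⊤ := fun e => hnil (by
      have := ((e ▸ Q.2 : IsPGroup q (⊤ : Subgroup G)).of_equiv Subgroup.topEquiv).isNilpotent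
      exact this)
    refine ⟨p, q, hp, hq, hpq, P, Q, hPc, hQn, ⟨h _ hQt, ?_⟩, hPQ⟩
    by_contra hexp
    push Not at hexp
    obtain ⟨y₀, hy₀, hy₀'⟩ := hexp
    obtain ⟨x, hxP⟩ := (isCyclic_iff_exists_zpowers_eq_top.mp hPc)
    -- `x` centralises every proper normal subgroup of `G` inside `Q`
    have hsmall : ∀ R : Subgroup G, R ≤ (Q : Subgroup G) → R ≠ (Q : Subgroup G) → R.Normal →
        ∀ r ∈ R, r * (x : G) = (x : G) * r := by
      intro R hR hne hRn r hr
      refine hcomm (R ⊔ P) ?_ r (mem_sup_left hr) x (mem_sup_right x.2)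
      intro he
      have hdis : ∀ X : Subgroup G, X ≤ (Q : Subgroup G) → Disjoint X (P : Subgroup G) :=
        fun X hX => IsPGroup.disjoint_of_ne _ _ hpq.symm _ _ (Q.2.to_le hX) P.2
      have h1 := CfsgLib.Solvable.card_sup_of_disjoint (N := R) (H := (P : Subgroup G))
        ((normalizer_eq_top R).ge.trans' le_top) (hdis R hR)
      have h2 := CfsgLib.Solvable.card_sup_of_disjoint (N := (Q : Subgroup G))
        ((normalizer_eq_top (Q : Subgroup G)).ge.trans' le_top) (hdis _ le_rfl)
      rw [he] at h1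
      rw [sup_comm, hPQ, h1] at h2
      exact hne (eq_of_le_of_card_ge hR (Nat.eq_of_mul_eq_mul_right Nat.card_pos h2).ge)
    have hQc := hcomm _ hQt
    -- the kernel and image of `y ↦ y ^ q` on `Q`
    have hQC : IsMulCommutative (Q : Subgroup G) := h _ hQt
    let f : (Q : Subgroup G) →* (Q : Subgroup G) :=
      { toFun := fun y => y ^ q
        map_one' := one_pow q
        map_mul' := fun a b => Commute.mul_pow (hQC.is_comm.comm a b) q }
    have hfk : f.ker.Characteristic := characteristic_iff_map_le.mpr fun φ => by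
      rintro _ ⟨a, ha, rfl⟩
      rw [SetLike.mem_coe, MonoidHom.mem_ker] at ha
      rw [MonoidHom.mem_ker]
      show (φ a) ^ q = 1
      rw [← map_pow, show a ^ q = 1 from ha, map_one]
    have hfr : f.range.Characteristic := characteristic_iff_map_le.mpr fun φ => by
      rintro _ ⟨_, ⟨a, rfl⟩, rfl⟩
      exact ⟨φ a, (map_pow φ a q).symm⟩
    have hker : f.ker.map (Q : Subgroup G).subtype ≠ Q := fun e => hy₀' (by
      obtain ⟨a, ha, hae⟩ := e.ge hy₀
      have h1 : a ^ q = 1 := ha
      rw [← hae]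
      simpa using congrArg Subtype.val h1)
    have hran : f.range.map (Q : Subgroup G).subtype ≠ Q := fun e => by
      have h1 : Function.Surjective f := fun a => by
        obtain ⟨b, hb, hba⟩ := e.ge a.2
        rw [(Q : Subgroup G).subtype_injective hba] at hb
        exact hb
      have h2 : Function.Injective f := Finite.injective_iff_surjective.mpr h1
      have h3 : ∀ k, ∀ a : (Q : Subgroup G), a ^ q ^ k = 1 → a = 1 := fun k => by
        induction k with
        | zero => intro a ha; simpa using ha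
        | succ k ih =>
          intro a ha
          refine h2 ((ih (a ^ q) ?_).trans (map_one f).symm)
          rwa [← pow_mul, ← pow_succ']
      obtain ⟨k, hk⟩ := Q.2 ⟨y₀, hy₀⟩
      refine hy₀' ?_
      rw [show y₀ = 1 from congrArg Subtype.val (h3 k _ hk), one_pow]
    -- so `x` centralises `Q`
    have hxQ : ∀ y ∈ (Q : Subgroup G), y * (x : G) = (x : G) * y := by
      intro y hy
      set d := (x : G) * y * (x : G)⁻¹ * y⁻¹ with hd
      have hdQ : d ∈ (Q : Subgroup G) := mul_mem (hQn.conj_mem y hy _) (inv_mem hy)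
      have hdq : d ^ q = 1 := by
        have h1 := hsmall _ (map_subtype_le _) hran inferInstance (y ^ q) ⟨⟨y, hy⟩ ^ q, ⟨_, rfl⟩, rfl⟩
        rw [hd, Commute.mul_pow (hQc _ (hQn.conj_mem y hy _) _ (inv_mem hy)), conj_pow, ← h1,
          mul_inv_cancel_right, inv_pow, mul_inv_cancel]
      have hdx := hsmall _ (map_subtype_le _) hker inferInstance d
        ⟨⟨d, hdQ⟩, show (⟨d, hdQ⟩ : (Q : Subgroup G)) ^ q = 1 from Subtype.ext hdq, rfl⟩
      have hn : ∀ n : ℕ, (x : G) ^ n * y * ((x : G) ^ n)⁻¹ = d ^ n * y := fun n => by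
        induction n with
        | zero => simp
        | succ n ih =>
          have h1 : (x : G) * d ^ n * (x : G)⁻¹ = d ^ n := by
            rw [← conj_pow, ← hdx, mul_inv_cancel_right]
          calc (x : G) ^ (n + 1) * y * ((x : G) ^ (n + 1))⁻¹
              = (x : G) * ((x : G) ^ n * y * ((x : G) ^ n)⁻¹) * (x : G)⁻¹ := by
                rw [pow_succ']; group
            _ = ((x : G) * d ^ n * (x : G)⁻¹) * ((x : G) * y * (x : G)⁻¹) := by rw [ih]; group
            _ = d ^ (n + 1) * y := by
                rw [h1, pow_succ, mul_assoc (d ^ n) d y, hd, inv_mul_cancel_right]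
      obtain ⟨k, hk⟩ := IsPGroup.iff_orderOf.mp P.2 x
      have h1 := hn (p ^ k)
      have hxk : (x : G) ^ (p ^ k) = 1 := by
        rw [← hk, ← Subgroup.orderOf_coe, pow_orderOf_eq_one]
      rw [hxk, inv_one, one_mul, mul_one, right_eq_mul] at h1
      have hd1 : d = 1 := orderOf_eq_one_iff.mp (Nat.eq_one_of_dvd_coprimes
        (((Nat.coprime_primes hp hq).mpr hpq).pow_left k)
        (orderOf_dvd_of_pow_eq_one h1) (orderOf_dvd_of_pow_eq_one hdq))
      rw [hd, mul_inv_eq_one] at hd1
      exact ((mul_inv_eq_iff_eq_mul.mp hd1)).symm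
    refine hna ⟨⟨fun a b => ?_⟩⟩
    have hall : ∀ g : G, g * (x : G) = (x : G) * g := by
      intro g
      have : (P : Subgroup G) ⊔ Q ≤ centralizer {(x : G)} := sup_le
        (fun a ha => by
          rw [mem_centralizer_singleton_iff]
          obtain ⟨k, hk⟩ := mem_zpowers_iff.mp (hxP ▸ mem_top _ : (⟨a, ha⟩ : P) ∈ zpowers x)
          rw [show a = (x : G) ^ k from (congrArg Subtype.val hk).symm.trans (by simp)]
          exact ((Commute.refl (x : G)).zpow_left k).eq)
        (fun a ha => mem_centralizer_singleton_iff.mpr (hxQ a ha))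
      exact mem_centralizer_singleton_iff.mp (this (hPQ ▸ mem_top g))
    have hPz : (P : Subgroup G) ≤ center G := fun a ha => by
      obtain ⟨k, hk⟩ := mem_zpowers_iff.mp (hxP ▸ mem_top _ : (⟨a, ha⟩ : P) ∈ zpowers x)
      rw [show a = (x : G) ^ k from (congrArg Subtype.val hk).symm.trans (by simp)]
      exact zpow_mem (mem_center_iff.mpr hall) k
    have : ⊤ ≤ centralizer ((Q : Subgroup G) : Set G) := hPQ ▸ sup_le
      (hPz.trans (center_le_centralizer _)) (fun a ha => mem_centralizer_iff.mpr fun b hb =>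
        hQc b hb a ha)
    have hQz : (Q : Subgroup G) ≤ center G := fun a ha => mem_center_iff.mpr fun g =>
      (mem_centralizer_iff.mp (this (mem_top g)) a ha).symm
    exact mem_center_iff.mp ((hPQ ▸ sup_le hPz hQz : ⊤ ≤ center G) (mem_top b)) a

end CfsgLib.MinNonNilp
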